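import Mathlib
import Groth.Agent.FlatAscent.TensorColimit

/-! Smoothness and étaleness of a finitely presented algebra descend along filtered colimits. -/

universe u
open scoped TensorProduct
open MvPolynomial

namespace Groth.Agent.EtAlgLib

variable {B₀ : Type u} [CommRing B₀] {ι : Type u} [Preorder ι] [IsDirected ι (· ≤ ·)] [Nonempty ι]
  {S : ι → Type u} [∀ i, CommRing (S i)] [∀ i, Algebra B₀ (S i)] {T : Type u} [CommRing T]
  [Algebra B₀ T]

/-- A map in the system, up to a chain of transition maps. -/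
abbrev Over (ψ : ∀ i, S i →ₐ[B₀] T) (i j : ι) : Type u :=
  {θ : S i →ₐ[B₀] S j // (ψ j).comp θ = ψ i}

section
variable (φ : ∀ i j, i ≤ j → (S i →ₐ[B₀] S j)) (ψ : ∀ i, S i →ₐ[B₀] T)
  (hg : ∀ i j (h : i ≤ j), (ψ j).comp (φ i j h) = ψ i)
  (hsurj : ∀ a : T, ∃ i, ∃ x : S i, ψ i x = a)
  (hker : ∀ i (x : S i), ψ i x = 0 → ∃ j, ∃ θ : Over ψ i j, θ.1 x = 0)

include hker in
theorem exists_over_kill {κ : Type*} (s : Finset κ) (i : ι) (x : κ → S i)
    (hx : ∀ k ∈ s, ψ i (x k) = 0) : ∃ j, ∃ θ : Over ψ i j, ∀ k ∈ s, θ.1 (x k) = 0 := by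
  classical
  induction s using Finset.induction with
  | empty => exact ⟨i, ⟨AlgHom.id _ _, AlgHom.comp_id _⟩, by simp⟩
  | insert a s ha ih =>
    obtain ⟨j, θ, hθ⟩ := ih fun k hk => hx k (Finset.mem_insert_of_mem hk)
    have h0 : ψ j (θ.1 (x a)) = 0 := by
      rw [← AlgHom.comp_apply, θ.2]; exact hx a (Finset.mem_insert_self _ _)
    obtain ⟨l, θ', hl⟩ := hker j _ h0
    refine ⟨l, ⟨θ'.1.comp θ.1, by rw [← AlgHom.comp_assoc, θ'.2, θ.2]⟩, fun k hk => ?_⟩
    rcases Finset.mem_insert.1 hk with rfl | hk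
    · exact hl
    · simp [hθ k hk]

include hker in
theorem exists_over_kill_poly {σ : Type} (i : ι) (p : MvPolynomial σ (S i))
    (hp : MvPolynomial.map (ψ i).toRingHom p = 0) :
    ∃ j, ∃ θ : Over ψ i j, MvPolynomial.map θ.1.toRingHom p = 0 := by
  obtain ⟨j, θ, hθ⟩ := exists_over_kill ψ hker p.support i (fun m => p.coeff m) fun m _ => by
    have := congrArg (fun q => MvPolynomial.coeff m q) hp
    simpa [MvPolynomial.coeff_map] using this
  refine ⟨j, θ, MvPolynomial.ext _ _ fun m => ?_⟩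
  rw [MvPolynomial.coeff_map, MvPolynomial.coeff_zero]
  by_cases hm : m ∈ p.support
  · exact hθ m hm
  · rw [MvPolynomial.notMem_support_iff.1 hm, map_zero]

include hg in
theorem over_of_le {i j : ι} (h : i ≤ j) : ∃ θ : Over ψ i j, θ.1 = φ i j h :=
  ⟨⟨φ i j h, hg i j h⟩, rfl⟩

theorem map_over {σ : Type} {i j : ι} (θ : Over ψ i j) (p : MvPolynomial σ (S i)) :
    MvPolynomial.map (ψ j).toRingHom (MvPolynomial.map θ.1.toRingHom p) =
      MvPolynomial.map (ψ i).toRingHom p := by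
  rw [MvPolynomial.map_map]
  exact congrArg (fun f => MvPolynomial.map f p) (congrArg AlgHom.toRingHom θ.2)

include hg hsurj in
theorem exists_lift_poly {σ : Type} (p : MvPolynomial σ T) :
    ∃ i, ∃ q : MvPolynomial σ (S i), MvPolynomial.map (ψ i).toRingHom q = p := by
  induction p using MvPolynomial.induction_on with
  | C a =>
    obtain ⟨i, x, hx⟩ := hsurj a
    exact ⟨i, C x, by rw [MvPolynomial.map_C]; exact congrArg C hx⟩
  | add p q hp hq =>
    obtain ⟨i, a, ha⟩ := hp
    obtain ⟨j, b, hb⟩ := hq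
    obtain ⟨k, hik, hjk⟩ := exists_ge_ge i j
    exact ⟨k, MvPolynomial.map (φ i k hik).toRingHom a + MvPolynomial.map (φ j k hjk).toRingHom b, by
      rw [map_add, map_over ψ ⟨φ i k hik, hg i k hik⟩, map_over ψ ⟨φ j k hjk, hg j k hjk⟩, ha, hb]⟩
  | mul_X p n hp =>
    obtain ⟨i, a, ha⟩ := hp
    exact ⟨i, a * X n, by rw [map_mul, ha, MvPolynomial.map_X]⟩

include hg hsurj in
theorem exists_lift_tuple {σ : Type} {n : ℕ} (p : Fin n → MvPolynomial σ T) :
    ∃ i, ∃ q : Fin n → MvPolynomial σ (S i), ∀ k, MvPolynomial.map (ψ i).toRingHom (q k) = p k := by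
  choose a q hq using fun k => exists_lift_poly φ ψ hg hsurj (p k)
  obtain ⟨i, hi⟩ := Finite.exists_le a
  exact ⟨i, fun k => MvPolynomial.map (φ (a k) i (hi k)).toRingHom (q k), fun k => by
    rw [map_over ψ ⟨φ (a k) i (hi k), hg _ i (hi k)⟩, hq]⟩

variable {σ : Type} (K : Ideal (MvPolynomial σ B₀))

include hg hsurj hker in
theorem exists_over_mem (i : ι) (x : MvPolynomial σ (S i))
    (hx : MvPolynomial.map (ψ i).toRingHom x ∈ K.map (MvPolynomial.map (algebraMap B₀ T))) :
    ∃ j, ∃ θ : Over ψ i j,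
      MvPolynomial.map θ.1.toRingHom x ∈ K.map (MvPolynomial.map (algebraMap B₀ (S j))) := by
  have hpush : ∀ {a b : ι} (θ : Over ψ a b) {y : MvPolynomial σ (S a)},
      y ∈ K.map (MvPolynomial.map (algebraMap B₀ (S a))) →
      MvPolynomial.map θ.1.toRingHom y ∈ K.map (MvPolynomial.map (algebraMap B₀ (S b))) := by
    intro a b θ y hy
    have h := Ideal.mem_map_of_mem (MvPolynomial.map θ.1.toRingHom) hy
    rw [Ideal.map_map] at h
    convert h using 2
    refine MvPolynomial.ringHom_ext (fun c => ?_) (fun v => ?_)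
    · simp
    · simp
  have key : ∀ z ∈ K.map (MvPolynomial.map (algebraMap B₀ T)), ∃ j,
      ∃ y : MvPolynomial σ (S j), y ∈ K.map (MvPolynomial.map (algebraMap B₀ (S j))) ∧
        MvPolynomial.map (ψ j).toRingHom y = z := by
    intro z hz
    rw [Ideal.map] at hz
    induction hz using Submodule.span_induction with
    | mem w hw =>
      obtain ⟨c, hc, rfl⟩ := hw
      refine ⟨i, _, Ideal.mem_map_of_mem _ hc, ?_⟩
      rw [MvPolynomial.map_map, AlgHom.toRingHom_eq_coe, AlgHom.comp_algebraMap]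
    | zero => exact ⟨i, 0, Submodule.zero_mem _, map_zero _⟩
    | add a b _ _ ha hb =>
      obtain ⟨j, y, hy, rfl⟩ := ha
      obtain ⟨j', y', hy', rfl⟩ := hb
      obtain ⟨k, hjk, hj'k⟩ := exists_ge_ge j j'
      exact ⟨k, _, Ideal.add_mem _ (hpush ⟨φ j k hjk, hg j k hjk⟩ hy)
        (hpush ⟨φ j' k hj'k, hg j' k hj'k⟩ hy'), by rw [map_add, map_over, map_over]⟩
    | smul t a _ ha =>
      obtain ⟨j, y, hy, rfl⟩ := ha
      obtain ⟨j', t', rfl⟩ := exists_lift_poly φ ψ hg hsurj t
      obtain ⟨k, hjk, hj'k⟩ := exists_ge_ge j j'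
      refine ⟨k, _, Ideal.mul_mem_left _ (MvPolynomial.map (φ j' k hj'k).toRingHom t')
        (hpush ⟨φ j k hjk, hg j k hjk⟩ hy), ?_⟩
      rw [map_mul, map_over ψ ⟨φ j' k hj'k, hg j' k hj'k⟩, map_over ψ ⟨φ j k hjk, hg j k hjk⟩,
        smul_eq_mul]
  obtain ⟨j, y, hy, hyx⟩ := key _ hx
  obtain ⟨k, hik, hjk⟩ := exists_ge_ge i j
  obtain ⟨l, θ, hθ⟩ := exists_over_kill_poly ψ hker k
    (MvPolynomial.map (φ i k hik).toRingHom x - MvPolynomial.map (φ j k hjk).toRingHom y) (by
      rw [map_sub, map_over ψ ⟨φ i k hik, hg i k hik⟩, map_over ψ ⟨φ j k hjk, hg j k hjk⟩, hyx,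
        sub_self])
  refine ⟨l, ⟨θ.1.comp (φ i k hik), by rw [← AlgHom.comp_assoc, θ.2, hg]⟩, ?_⟩
  rw [map_sub, sub_eq_zero] at hθ
  have h := hpush θ (hpush ⟨φ j k hjk, hg j k hjk⟩ hy)
  rw [← hθ, MvPolynomial.map_map] at h
  exact h

end

theorem map_aeval_map {σ τ : Type} {R R' : Type u} [CommRing R] [Algebra B₀ R] [CommRing R']
    [Algebra B₀ R'] (θ : R →ₐ[B₀] R') (q : τ → MvPolynomial σ R) (q' : τ → MvPolynomial σ R')
    (hq : ∀ k, MvPolynomial.map θ.toRingHom (q k) = q' k) (r : MvPolynomial τ B₀) :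
    MvPolynomial.map θ.toRingHom (aeval q (MvPolynomial.map (algebraMap B₀ R) r)) =
      aeval q' (MvPolynomial.map (algebraMap B₀ R') r) := by
  induction r using MvPolynomial.induction_on with
  | C c =>
    rw [MvPolynomial.map_C, MvPolynomial.map_C, MvPolynomial.aeval_C, MvPolynomial.aeval_C,
      ← MvPolynomial.C_eq_algebraMap, ← MvPolynomial.C_eq_algebraMap, MvPolynomial.map_C]
    exact congrArg MvPolynomial.C (θ.commutes c)
  | add p q hp hq => simp only [map_add, hp, hq]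
  | mul_X p n hp => simp only [map_mul, hp, MvPolynomial.map_X, MvPolynomial.aeval_X, hq]

/-! ### The criterion for smoothness -/

section
variable {C₀ : Type u} [CommRing C₀] [Algebra B₀ C₀] {n m : ℕ}

/-- The splitting data of a presentation over `R`. -/
def SplitData (P : Algebra.Presentation B₀ C₀ (Fin n) (Fin m)) (R : Type u) [CommRing R] [Algebra B₀ R]
    (h : Fin n → MvPolynomial (Fin n) R) : Prop :=
  (∀ j, aeval h (MvPolynomial.map (algebraMap B₀ R) (P.relation j)) ∈
      ((Ideal.span (Set.range P.relation)) ^ 2).map (MvPolynomial.map (algebraMap B₀ R))) ∧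
    ∀ k, h k - X k ∈ (Ideal.span (Set.range P.relation)).map (MvPolynomial.map (algebraMap B₀ R))

variable (P : Algebra.Presentation B₀ C₀ (Fin n) (Fin m)) (R : Type u) [CommRing R] [Algebra B₀ R]

theorem span_map_eq_ker :
    (Ideal.span (Set.range P.relation)).map (MvPolynomial.map (algebraMap B₀ R)) =
      RingHom.ker (aeval (R := R) (P.baseChange R).val).toRingHom := by
  rw [Ideal.map_span, ← Set.range_comp]
  exact P.span_range_relation_eq_ker_baseChange R

theorem aeval_surjective_baseChange :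
    Function.Surjective (aeval (R := R) (S₁ := R ⊗[B₀] C₀) (P.baseChange R).val) := fun x =>
  ⟨(P.baseChange R).σ x, (P.baseChange R).aeval_val_σ x⟩

theorem smooth_iff_splitData [Algebra.FinitePresentation B₀ C₀] :
    Algebra.Smooth R (R ⊗[B₀] C₀) ↔ ∃ h, SplitData P R h := by
  let f : MvPolynomial (Fin n) R →ₐ[R] R ⊗[B₀] C₀ := aeval (P.baseChange R).val
  have hf : Function.Surjective f := aeval_surjective_baseChange P R
  have hk : (Ideal.span (Set.range P.relation)).map (MvPolynomial.map (algebraMap B₀ R)) =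
      RingHom.ker f.toRingHom := span_map_eq_ker P R
  have hk2 : ((Ideal.span (Set.range P.relation)) ^ 2).map (MvPolynomial.map (algebraMap B₀ R)) =
      RingHom.ker f.toRingHom ^ 2 := by rw [Ideal.map_pow, hk]
  constructor
  · intro hs
    obtain ⟨g, hg⟩ := (Algebra.FormallySmooth.iff_split_surjection f hf).1 hs.formallySmooth
    choose h hh using fun k => Ideal.Quotient.mk_surjective (g (f (X k)))
    have hcomp : ∀ p, Ideal.Quotient.mk _ (aeval h p) = g (f p) := fun p => by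
      have e : (Ideal.Quotient.mkₐ R (RingHom.ker f.toRingHom ^ 2)).comp (aeval h) = g.comp f :=
        MvPolynomial.algHom_ext fun k => by
          rw [AlgHom.comp_apply, AlgHom.comp_apply, aeval_X]
          exact hh k
      exact DFunLike.congr_fun e p
    refine ⟨h, fun j => ?_, fun k => ?_⟩
    · rw [hk2, ← Ideal.Quotient.eq_zero_iff_mem, hcomp]
      have : MvPolynomial.map (algebraMap B₀ R) (P.relation j) ∈ RingHom.ker f.toRingHom := by
        rw [← hk]; exact Ideal.mem_map_of_mem _ (Ideal.subset_span ⟨j, rfl⟩)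
      rw [show f (MvPolynomial.map (algebraMap B₀ R) (P.relation j)) = 0 from this, map_zero]
    · have h1 : f.kerSquareLift (g (f (X k))) = f (X k) := DFunLike.congr_fun hg (f (X k))
      rw [← hh k, AlgHom.kerSquareLift_mk] at h1
      rw [hk, RingHom.mem_ker]
      change f (h k - X k) = 0
      rw [map_sub, h1, sub_self]
  · rintro ⟨h, h1, h2⟩
    let g₀ : MvPolynomial (Fin n) R →ₐ[R] MvPolynomial (Fin n) R ⧸ RingHom.ker f.toRingHom ^ 2 :=
      (Ideal.Quotient.mkₐ R _).comp (aeval h)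
    have hle : RingHom.ker f.toRingHom ≤ RingHom.ker g₀.toRingHom := by
      refine hk.ge.trans ?_
      rw [Ideal.map_le_iff_le_comap, Ideal.span_le]
      rintro _ ⟨j, rfl⟩
      exact Ideal.Quotient.eq_zero_iff_mem.2 (hk2 ▸ h1 j)
    let e := Ideal.quotientKerAlgEquivOfSurjective hf
    let g : R ⊗[B₀] C₀ →ₐ[R] MvPolynomial (Fin n) R ⧸ RingHom.ker f.toRingHom ^ 2 :=
      (Ideal.Quotient.liftₐ (RingHom.ker f.toRingHom) g₀ fun a ha => hle ha).comp e.symm.toAlgHom
    haveI : Algebra.FinitePresentation R (R ⊗[B₀] C₀) := inferInstance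
    refine ⟨Algebra.FormallySmooth.of_split f g ?_, inferInstance⟩
    refine AlgHom.ext fun x => ?_
    obtain ⟨p, rfl⟩ := hf x
    have he : e.symm (f p) = Ideal.Quotient.mk _ p := e.injective (by
      rw [AlgEquiv.apply_symm_apply]; rfl)
    have hgp : g (f p) = g₀ p := by
      change Ideal.Quotient.liftₐ (RingHom.ker f.toRingHom) g₀ (fun a ha => hle ha) (e.symm (f p)) = g₀ p
      rw [he]
      exact Ideal.Quotient.lift_mk _ _ _
    rw [AlgHom.comp_apply, hgp, AlgHom.id_apply]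
    have e2 : f.kerSquareLift.comp g₀ = f := MvPolynomial.algHom_ext fun k => by
      simp only [g₀, AlgHom.comp_apply, Ideal.Quotient.mkₐ_eq_mk, AlgHom.kerSquareLift_mk, aeval_X]
      rw [← sub_eq_zero, ← map_sub]
      exact (hk ▸ h2 k : h k - X k ∈ RingHom.ker f.toRingHom)
    exact DFunLike.congr_fun e2 p

end

section
variable {C₀ : Type u} [CommRing C₀] [Algebra B₀ C₀] [Algebra.FinitePresentation B₀ C₀]
  (φ : ∀ i j, i ≤ j → (S i →ₐ[B₀] S j)) (ψ : ∀ i, S i →ₐ[B₀] T)
  (hg : ∀ i j (h : i ≤ j), (ψ j).comp (φ i j h) = ψ i)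
  (hsurj : ∀ a : T, ∃ i, ∃ x : S i, ψ i x = a)
  (hker : ∀ i (x : S i), ψ i x = 0 → ∃ j, ∃ θ : Over ψ i j, θ.1 x = 0)

theorem SplitData.push {n m : ℕ} {P : Algebra.Presentation B₀ C₀ (Fin n) (Fin m)} {R R' : Type u}
    [CommRing R] [Algebra B₀ R] [CommRing R'] [Algebra B₀ R'] (θ : R →ₐ[B₀] R')
    {h : Fin n → MvPolynomial (Fin n) R} (hh : SplitData P R h) :
    SplitData P R' fun k => MvPolynomial.map θ.toRingHom (h k) := by
  have hc : (MvPolynomial.map θ.toRingHom).comp (MvPolynomial.map (algebraMap B₀ R)) =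
      (MvPolynomial.map (algebraMap B₀ R') : MvPolynomial (Fin n) B₀ →+* _) := by
    refine MvPolynomial.ringHom_ext (fun c => ?_) (fun v => ?_)
    · simp
    · simp
  refine ⟨fun j => ?_, fun k => ?_⟩
  · have h1 := Ideal.mem_map_of_mem (MvPolynomial.map θ.toRingHom) (hh.1 j)
    rw [Ideal.map_map, hc] at h1
    rwa [map_aeval_map θ h _ (fun k => rfl)] at h1
  · have h1 := Ideal.mem_map_of_mem (MvPolynomial.map θ.toRingHom) (hh.2 k)
    rw [Ideal.map_map, hc, map_sub, MvPolynomial.map_X] at h1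
    exact h1

include hg hsurj hker in
theorem exists_smooth_index (h : Algebra.Smooth T (T ⊗[B₀] C₀)) :
    ∃ i, Algebra.Smooth (S i) (S i ⊗[B₀] C₀) ∧
      ∀ j, Over ψ i j → Algebra.Smooth (S j) (S j ⊗[B₀] C₀) := by
  classical
  obtain ⟨n, m, ⟨P⟩⟩ := Algebra.Presentation.exists_presentation_fin B₀ C₀
  obtain ⟨hT, h1, h2⟩ := (smooth_iff_splitData P T).1 h
  obtain ⟨i₀, q, hq⟩ := exists_lift_tuple φ ψ hg hsurj hT
  have hev : ∀ (i : ι) (q : Fin n → MvPolynomial (Fin n) (S i)),
      (∀ k, MvPolynomial.map (ψ i).toRingHom (q k) = hT k) → ∀ j,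
      MvPolynomial.map (ψ i).toRingHom
        (aeval q (MvPolynomial.map (algebraMap B₀ (S i)) (P.relation j))) =
        aeval hT (MvPolynomial.map (algebraMap B₀ T) (P.relation j)) := fun i q hq j =>
    map_aeval_map (ψ i) q hT hq _
  have hpush : ∀ {σ : Type} (K : Ideal (MvPolynomial σ B₀)) {a b : ι} (θ : Over ψ a b)
      {y : MvPolynomial σ (S a)}, y ∈ K.map (MvPolynomial.map (algebraMap B₀ (S a))) →
      MvPolynomial.map θ.1.toRingHom y ∈ K.map (MvPolynomial.map (algebraMap B₀ (S b))) := by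
    intro σ K a b θ y hy
    have h := Ideal.mem_map_of_mem (MvPolynomial.map θ.1.toRingHom) hy
    rw [Ideal.map_map] at h
    convert h using 2
    refine MvPolynomial.ringHom_ext (fun c => ?_) (fun v => ?_)
    · simp
    · simp
  have step1 : ∀ s : Finset (Fin m), ∃ i, ∃ q : Fin n → MvPolynomial (Fin n) (S i),
      (∀ k, MvPolynomial.map (ψ i).toRingHom (q k) = hT k) ∧
      ∀ j ∈ s, aeval q (MvPolynomial.map (algebraMap B₀ (S i)) (P.relation j)) ∈
        ((Ideal.span (Set.range P.relation)) ^ 2).map (MvPolynomial.map (algebraMap B₀ (S i))) := by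
    intro s
    induction s using Finset.induction with
    | empty => exact ⟨i₀, q, hq, by simp⟩
    | insert a s ha ih =>
      obtain ⟨i, q, hq, hs⟩ := ih
      obtain ⟨j, θ, hθ⟩ := exists_over_mem φ ψ hg hsurj hker _ i _ (hev i q hq a ▸ h1 a)
      have e : ∀ r : MvPolynomial (Fin n) B₀, MvPolynomial.map θ.1.toRingHom
          (aeval q (MvPolynomial.map (algebraMap B₀ (S i)) r)) =
          aeval (fun k => MvPolynomial.map θ.1.toRingHom (q k))
            (MvPolynomial.map (algebraMap B₀ (S j)) r) := fun r =>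
        map_aeval_map θ.1 q _ (fun k => rfl) r
      refine ⟨j, fun k => MvPolynomial.map θ.1.toRingHom (q k),
        fun k => by rw [map_over, hq], fun b hb => ?_⟩
      rw [← e]
      rcases Finset.mem_insert.1 hb with rfl | hb
      · exact hθ
      · exact hpush _ θ (hs b hb)
  obtain ⟨i₁, q₁, hq₁, hr₁⟩ := step1 Finset.univ
  have step2 : ∀ s : Finset (Fin n), ∃ i, ∃ q : Fin n → MvPolynomial (Fin n) (S i),
      (∀ k, MvPolynomial.map (ψ i).toRingHom (q k) = hT k) ∧
      (∀ j, aeval q (MvPolynomial.map (algebraMap B₀ (S i)) (P.relation j)) ∈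
        ((Ideal.span (Set.range P.relation)) ^ 2).map (MvPolynomial.map (algebraMap B₀ (S i)))) ∧
      ∀ k ∈ s, q k - X k ∈
        (Ideal.span (Set.range P.relation)).map (MvPolynomial.map (algebraMap B₀ (S i))) := by
    intro s
    induction s using Finset.induction with
    | empty => exact ⟨i₁, q₁, hq₁, fun j => hr₁ j (Finset.mem_univ j), by simp⟩
    | insert a s ha ih =>
      obtain ⟨i, q, hq, hr, hs⟩ := ih
      obtain ⟨j, θ, hθ⟩ := exists_over_mem φ ψ hg hsurj hker _ i (q a - X a)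
        (by rw [map_sub, hq, MvPolynomial.map_X]; exact h2 a)
      refine ⟨j, fun k => MvPolynomial.map θ.1.toRingHom (q k), fun k => by rw [map_over, hq],
        fun b => ?_, fun b hb => ?_⟩
      · have := hpush _ θ (hr b)
        rwa [map_aeval_map θ.1 q _ (fun k => rfl)] at this
      · rcases Finset.mem_insert.1 hb with rfl | hb
        · rwa [map_sub, MvPolynomial.map_X] at hθ
        · have := hpush _ θ (hs b hb)
          rwa [map_sub, MvPolynomial.map_X] at this
  obtain ⟨i, q₂, -, hr, hs⟩ := step2 Finset.univ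
  have hd : SplitData P (S i) q₂ := ⟨hr, fun k => hs k (Finset.mem_univ k)⟩
  exact ⟨i, (smooth_iff_splitData P _).2 ⟨q₂, hd⟩,
    fun j θ => (smooth_iff_splitData P _).2 ⟨_, hd.push θ.1⟩⟩

end

end Groth.Agent.EtAlgLib
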