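import Mathlib
import Groth.Agent.EtAlgLib.SmoothColim

/-! Étaleness descends along filtered colimits; tensor systems. -/

set_option backward.isDefEq.respectTransparency.types false
set_option backward.isDefEq.respectTransparency false

universe u
open scoped TensorProduct

namespace Groth.Agent.EtAlgLib

variable {B₀ : Type u} [CommRing B₀] {ι : Type u} [Preorder ι] [IsDirected ι (· ≤ ·)] [Nonempty ι]
  {S : ι → Type u} [∀ i, CommRing (S i)] [∀ i, Algebra B₀ (S i)] {T : Type u} [CommRing T]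
  [Algebra B₀ T]
  {C₀ : Type u} [CommRing C₀] [Algebra B₀ C₀]
  (φ : ∀ i j, i ≤ j → (S i →ₐ[B₀] S j)) (ψ : ∀ i, S i →ₐ[B₀] T)
  (hg : ∀ i j (h : i ≤ j), (ψ j).comp (φ i j h) = ψ i)
  (hsurj : ∀ a : T, ∃ i, ∃ x : S i, ψ i x = a)
  (hker : ∀ i (x : S i), ψ i x = 0 → ∃ j, ∃ θ : Over ψ i j, θ.1 x = 0)

theorem formallyUnramified_iff_tensor_omega (R : Type u) [CommRing R] [Algebra B₀ R] :
    Algebra.FormallyUnramified R (R ⊗[B₀] C₀) ↔ Subsingleton (R ⊗[B₀] Ω[C₀⁄B₀]) := by
  letI := Algebra.TensorProduct.rightAlgebra (R := B₀) (A := R) (B := C₀)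
  haveI : Algebra.IsPushout B₀ R C₀ (R ⊗[B₀] C₀) := TensorProduct.isPushout
  rw [Algebra.formallyUnramified_iff,
    (KaehlerDifferential.tensorKaehlerEquivBase B₀ R C₀ (R ⊗[B₀] C₀)).toEquiv.subsingleton_congr]

theorem rTensor_over {i j : ι} (θ : Over ψ i j) (M : Type u) [AddCommGroup M] [Module B₀ M]
    (z : S i ⊗[B₀] M) :
    (ψ j).toLinearMap.rTensor M (θ.1.toLinearMap.rTensor M z) = (ψ i).toLinearMap.rTensor M z := by
  rw [← LinearMap.rTensor_comp_apply, ← AlgHom.comp_toLinearMap, θ.2]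

include hg hsurj in
theorem exists_tensor_rep (M : Type u) [AddCommGroup M] [Module B₀ M] (z : T ⊗[B₀] M) :
    ∃ i, ∃ w : S i ⊗[B₀] M, (ψ i).toLinearMap.rTensor M w = z := by
  induction z using TensorProduct.induction_on with
  | zero => exact ⟨Classical.arbitrary ι, 0, map_zero _⟩
  | tmul t m =>
    obtain ⟨i, x, rfl⟩ := hsurj t
    exact ⟨i, x ⊗ₜ m, rfl⟩
  | add a b ha hb =>
    obtain ⟨i, x, rfl⟩ := ha
    obtain ⟨j, y, rfl⟩ := hb
    obtain ⟨k, hik, hjk⟩ := exists_ge_ge i j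
    exact ⟨k, (φ i k hik).toLinearMap.rTensor M x + (φ j k hjk).toLinearMap.rTensor M y, by
      rw [map_add, rTensor_over ψ ⟨φ i k hik, hg i k hik⟩, rTensor_over ψ ⟨φ j k hjk, hg j k hjk⟩]⟩

include hg hsurj hker in
theorem exists_over_tensor_eq_zero (M : Type u) [AddCommGroup M] [Module B₀ M] (i : ι)
    (z : S i ⊗[B₀] M) (hz : (ψ i).toLinearMap.rTensor M z = 0) :
    ∃ j, ∃ θ : Over ψ i j, θ.1.toLinearMap.rTensor M z = 0 := by
  classical
  let π : (M →₀ B₀) →ₗ[B₀] M := Finsupp.linearCombination B₀ id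
  have hπ : Function.Surjective π := fun m => ⟨Finsupp.single m 1, by simp [π]⟩
  obtain ⟨Z, hZ⟩ := LinearMap.lTensor_surjective (S i) hπ z
  have hZT : π.lTensor T ((ψ i).toLinearMap.rTensor _ Z) = 0 := by
    rw [← LinearMap.comp_apply, LinearMap.lTensor_comp_rTensor, ← LinearMap.rTensor_comp_lTensor,
      LinearMap.comp_apply, hZ, hz]
  obtain ⟨W, hW⟩ := (lTensor_exact (M := ↥(LinearMap.ker π)) (N := M →₀ B₀) (P := M) (f := (LinearMap.ker π).subtype) (g := π) T
    (LinearMap.exact_subtype_ker_map π) hπ _).1 hZT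
  obtain ⟨i', W', hW'⟩ := exists_tensor_rep φ ψ hg hsurj ↥(LinearMap.ker π) W
  obtain ⟨k, hik, hi'k⟩ := exists_ge_ge i i'
  let θ₁ : Over ψ i k := ⟨φ i k hik, hg i k hik⟩
  let θ₂ : Over ψ i' k := ⟨φ i' k hi'k, hg i' k hi'k⟩
  let D : S k ⊗[B₀] (M →₀ B₀) := θ₁.1.toLinearMap.rTensor _ Z -
    (LinearMap.ker π).subtype.lTensor (S k) (θ₂.1.toLinearMap.rTensor _ W')
  have hD : (ψ k).toLinearMap.rTensor _ D = 0 := by
    rw [map_sub, rTensor_over, ← LinearMap.comp_apply, LinearMap.rTensor_comp_lTensor,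
      ← LinearMap.lTensor_comp_rTensor, LinearMap.comp_apply, rTensor_over ψ θ₂ ↥(LinearMap.ker π), hW', hW, sub_self]
  let e := fun (R : Type u) [CommRing R] [Algebra B₀ R] =>
    TensorProduct.finsuppScalarRight B₀ B₀ R M
  have hcoord : ∀ {a : ι} {R : Type u} [CommRing R] [Algebra B₀ R] (g : S a →ₐ[B₀] R)
      (w : S a ⊗[B₀] (M →₀ B₀)) (m : M), e R (g.toLinearMap.rTensor _ w) m = g (e (S a) w m) := by
    intro a R _ _ g w m
    induction w using TensorProduct.induction_on with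
    | zero => simp
    | tmul x f => simp [e]
    | add x y hx hy => simp only [map_add, Finsupp.add_apply, hx, hy]
  obtain ⟨l, θ, hθ⟩ := exists_over_kill ψ hker (e (S k) D).support k (fun m => e (S k) D m)
    fun m _ => by rw [← hcoord, hD, map_zero, Finsupp.zero_apply]
  have hDl : θ.1.toLinearMap.rTensor _ D = 0 := by
    refine (e (S l)).injective (Finsupp.ext fun m => ?_)
    rw [hcoord, map_zero, Finsupp.zero_apply]
    by_cases hm : m ∈ (e (S k) D).support
    · exact hθ m hm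
    · rw [Finsupp.notMem_support_iff.1 hm, map_zero]
  refine ⟨l, ⟨θ.1.comp θ₁.1, by rw [← AlgHom.comp_assoc, θ.2, θ₁.2]⟩, ?_⟩
  rw [← hZ, AlgHom.comp_toLinearMap, LinearMap.rTensor_comp_apply, ← LinearMap.comp_apply (f := θ₁.1.toLinearMap.rTensor M),
    LinearMap.rTensor_comp_lTensor, ← LinearMap.lTensor_comp_rTensor, LinearMap.comp_apply,
    ← LinearMap.comp_apply, LinearMap.rTensor_comp_lTensor, ← LinearMap.lTensor_comp_rTensor,
    LinearMap.comp_apply]
  have h0 : π.lTensor (S l) (θ.1.toLinearMap.rTensor _ D) = 0 := by rw [hDl, map_zero]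
  simp only [D, map_sub] at h0
  have h1 : π.lTensor (S l) (θ.1.toLinearMap.rTensor _
      ((LinearMap.ker π).subtype.lTensor (S k) (θ₂.1.toLinearMap.rTensor _ W'))) = 0 := by
    rw [← LinearMap.comp_apply (f := θ.1.toLinearMap.rTensor _), LinearMap.rTensor_comp_lTensor,
      ← LinearMap.lTensor_comp_rTensor, LinearMap.comp_apply, ← LinearMap.lTensor_comp_apply,
      LinearMap.comp_ker_subtype, LinearMap.lTensor_zero, LinearMap.zero_apply]
  rwa [h1, sub_zero] at h0

include hg hsurj hker in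
theorem exists_subsingleton_tensor (M : Type u) [AddCommGroup M] [Module B₀ M] [Module C₀ M]
    [IsScalarTower B₀ C₀ M] [Module.Finite C₀ M] (h : Subsingleton (T ⊗[B₀] M)) (i₀ : ι) :
    ∃ j, Nonempty (Over ψ i₀ j) ∧ Subsingleton (S j ⊗[B₀] M) := by
  classical
  obtain ⟨s, hs⟩ := Module.Finite.fg_top (R := C₀) (M := M)
  have step : ∀ t : Finset M, ∃ j, Nonempty (Over ψ i₀ j) ∧ ∀ m ∈ t, (1 : S j) ⊗ₜ[B₀] m = 0 := by
    intro t
    induction t using Finset.induction with
    | empty => exact ⟨i₀, ⟨⟨AlgHom.id _ _, AlgHom.comp_id _⟩⟩, by simp⟩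
    | insert a t ha ih =>
      obtain ⟨i, ⟨θ⟩, hθ⟩ := ih
      obtain ⟨j, θ', hj⟩ := exists_over_tensor_eq_zero φ ψ hg hsurj hker M i ((1 : S i) ⊗ₜ[B₀] a)
        (Subsingleton.elim _ _)
      refine ⟨j, ⟨⟨θ'.1.comp θ.1, by rw [← AlgHom.comp_assoc, θ'.2, θ.2]⟩⟩, fun m hm => ?_⟩
      rcases Finset.mem_insert.1 hm with rfl | hm
      · simpa using hj
      · have h1 := congrArg (θ'.1.toLinearMap.rTensor M) (hθ m hm)
        rw [LinearMap.rTensor_tmul, map_zero] at h1
        simpa using h1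
  obtain ⟨j, hθ, hj⟩ := step s
  refine ⟨j, hθ, subsingleton_of_forall_eq 0 fun z => ?_⟩
  have hm : ∀ (m : M) (r : S j), r ⊗ₜ[B₀] m = 0 := by
    intro m
    have hmem : m ∈ Submodule.span C₀ (s : Set M) := hs ▸ Submodule.mem_top
    induction hmem using Submodule.span_induction with
    | mem x hx =>
      intro r
      have h1 := congrArg ((LinearMap.mulLeft B₀ r).rTensor M) (hj x hx)
      rwa [LinearMap.rTensor_tmul, map_zero, LinearMap.mulLeft_apply, mul_one] at h1
    | zero => exact fun r => TensorProduct.tmul_zero _ _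
    | add x y _ _ hx hy => exact fun r => by rw [TensorProduct.tmul_add, hx, hy, add_zero]
    | smul c x _ hx =>
      intro r
      have h1 := congrArg (((LinearMap.lsmul C₀ M c).restrictScalars B₀).lTensor (S j)) (hx r)
      rwa [LinearMap.lTensor_tmul, map_zero, LinearMap.restrictScalars_apply, LinearMap.lsmul_apply] at h1
  induction z using TensorProduct.induction_on with
  | zero => rfl
  | tmul r m => exact hm m r
  | add a b ha hb => rw [ha, hb, add_zero]

include hg hsurj hker in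
theorem exists_etale_index [Algebra.FinitePresentation B₀ C₀] (h : Algebra.Etale T (T ⊗[B₀] C₀)) :
    ∃ i, Algebra.Etale (S i) (S i ⊗[B₀] C₀) := by
  haveI := h
  obtain ⟨i, -, hi⟩ := exists_smooth_index φ ψ hg hsurj hker (inferInstance : Algebra.Smooth T (T ⊗[B₀] C₀))
  obtain ⟨j, ⟨θ⟩, hj⟩ := exists_subsingleton_tensor (C₀ := C₀) φ ψ hg hsurj hker Ω[C₀⁄B₀]
    ((formallyUnramified_iff_tensor_omega T).1 inferInstance) i
  haveI := hi j θ
  haveI := (formallyUnramified_iff_tensor_omega (C₀ := C₀) (S j)).2 hj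
  haveI := Algebra.FormallyEtale.of_formallyUnramified_and_formallySmooth (R := S j) (A := S j ⊗[B₀] C₀)
  exact ⟨j, ⟨inferInstance, inferInstance⟩⟩

/-- The system `B ⊗ G i` over `B` with its colimit `B ⊗ A`. -/
theorem baseChange_system {A₀ : Type u} [CommRing A₀] {G : ι → Type u} [∀ i, CommRing (G i)]
    [∀ i, Algebra A₀ (G i)] (f : ∀ i j, i ≤ j → (G i →ₐ[A₀] G j)) {A : Type u} [CommRing A]
    [Algebra A₀ A] (g : ∀ i, G i →ₐ[A₀] A) (hg : ∀ i j (h : i ≤ j), (g j).comp (f i j h) = g i)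
    (hsurj : ∀ a : A, ∃ i, ∃ x : G i, g i x = a)
    (hker : ∀ i (x : G i), g i x = 0 → ∃ j, ∃ h : i ≤ j, f i j h x = 0)
    (B : Type u) [CommRing B] [Algebra A₀ B] :
    (∀ i j (h : i ≤ j), (Algebra.TensorProduct.map (AlgHom.id B B) (g j)).comp
        (Algebra.TensorProduct.map (AlgHom.id B B) (f i j h)) =
          Algebra.TensorProduct.map (AlgHom.id B B) (g i)) ∧
    (∀ a : B ⊗[A₀] A, ∃ i, ∃ x : B ⊗[A₀] G i, Algebra.TensorProduct.map (AlgHom.id B B) (g i) x = a) ∧
    ∀ i (x : B ⊗[A₀] G i), Algebra.TensorProduct.map (AlgHom.id B B) (g i) x = 0 →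
      ∃ j, ∃ θ : Over (fun i => Algebra.TensorProduct.map (AlgHom.id B B) (g i)) i j, θ.1 x = 0 := by
  have hk : ∀ i (x : G i), g i x = 0 → ∃ j, ∃ θ : Over g i j, θ.1 x = 0 := fun i x hx => by
    obtain ⟨j, h, hj⟩ := hker i x hx
    exact ⟨j, ⟨f i j h, hg i j h⟩, hj⟩
  have key : ∀ {P Q : Type u} [CommRing P] [Algebra A₀ P] [CommRing Q] [Algebra A₀ Q]
      (m : P →ₐ[A₀] Q) (x : B ⊗[A₀] P), Algebra.TensorProduct.map (AlgHom.id B B) m x =
        TensorProduct.comm A₀ Q B (m.toLinearMap.rTensor B (TensorProduct.comm A₀ B P x)) := by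
    intro P Q _ _ _ _ m x
    induction x using TensorProduct.induction_on with
    | zero => simp
    | tmul b p => simp
    | add a b ha hb => simp only [map_add, ha, hb]
  refine ⟨fun i j h => ?_, fun a => ?_, fun i x hx => ?_⟩
  · rw [← hg i j h]
    refine Algebra.TensorProduct.ext' fun b c => ?_
    simp
  · obtain ⟨i, w, hw⟩ := exists_tensor_rep f g hg hsurj B (TensorProduct.comm A₀ B A a)
    refine ⟨i, TensorProduct.comm A₀ (G i) B w, ?_⟩
    rw [key, show TensorProduct.comm A₀ B (G i) (TensorProduct.comm A₀ (G i) B w) = w from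
        (TensorProduct.comm A₀ (G i) B).symm_apply_apply w, hw]
    exact (TensorProduct.comm A₀ B A).symm_apply_apply a
  · obtain ⟨j, θ, hθ⟩ := exists_over_tensor_eq_zero f g hg hsurj hk B i (TensorProduct.comm A₀ B (G i) x)
      ((TensorProduct.comm A₀ A B).injective (by rw [← key, hx, map_zero]))
    refine ⟨j, ⟨Algebra.TensorProduct.map (AlgHom.id B B) θ.1,
      Algebra.TensorProduct.ext' fun b c => ?_⟩, ?_⟩
    · simpa using congrArg (fun z => b ⊗ₜ[A₀] z) (DFunLike.congr_fun θ.2 c)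
    · rw [key, hθ, map_zero]

end Groth.Agent.EtAlgLib
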