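import Mathlib
import Groth.Agent.EtAlgLib.EtaleColim

/-! Finite, surjective, bijective and unramified descend along filtered colimits. -/

universe u
open scoped TensorProduct
open Polynomial

namespace Groth.Agent.EtAlgLib

variable {B₀ : Type u} [CommRing B₀] {ι : Type u} [Preorder ι] [IsDirected ι (· ≤ ·)] [Nonempty ι]
  {S : ι → Type u} [∀ i, CommRing (S i)] [∀ i, Algebra B₀ (S i)] {T : Type u} [CommRing T]
  [Algebra B₀ T]
  {C₀ : Type u} [CommRing C₀] [Algebra B₀ C₀]
  (φ : ∀ i j, i ≤ j → (S i →ₐ[B₀] S j)) (ψ : ∀ i, S i →ₐ[B₀] T)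
  (hg : ∀ i j (h : i ≤ j), (ψ j).comp (φ i j h) = ψ i)
  (hsurj : ∀ a : T, ∃ i, ∃ x : S i, ψ i x = a)
  (hker : ∀ i (x : S i), ψ i x = 0 → ∃ j, ∃ θ : Over ψ i j, θ.1 x = 0)

/-- `R ⊗ C₀ → R' ⊗ C₀` as a ring map. -/
noncomputable abbrev baseMap {R R' : Type u} [CommRing R] [Algebra B₀ R] [CommRing R'] [Algebra B₀ R']
    (g : R →ₐ[B₀] R') : R ⊗[B₀] C₀ →ₐ[B₀] R' ⊗[B₀] C₀ :=
  Algebra.TensorProduct.map g (AlgHom.id B₀ C₀)

theorem baseMap_eq {R R' : Type u} [CommRing R] [Algebra B₀ R] [CommRing R'] [Algebra B₀ R']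
    (g : R →ₐ[B₀] R') (z : R ⊗[B₀] C₀) : baseMap g z = g.toLinearMap.rTensor C₀ z := by
  induction z using TensorProduct.induction_on with
  | zero => simp
  | tmul a b => simp
  | add a b ha hb => simp only [map_add, ha, hb]

theorem baseMap_algebraMap {R R' : Type u} [CommRing R] [Algebra B₀ R] [CommRing R'] [Algebra B₀ R']
    (g : R →ₐ[B₀] R') (r : R) :
    baseMap (C₀ := C₀) g (algebraMap R (R ⊗[B₀] C₀) r) = algebraMap R' (R' ⊗[B₀] C₀) (g r) := by
  simp [Algebra.TensorProduct.algebraMap_apply]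

include hg hsurj hker in
theorem exists_over_integral (x : C₀) (h : IsIntegral T ((1 : T) ⊗ₜ[B₀] x)) :
    ∃ i, ∀ j, Over ψ i j → IsIntegral (S j) ((1 : S j) ⊗ₜ[B₀] x) := by
  classical
  obtain ⟨p, hp, hp0⟩ := h
  rw [← aeval_def] at hp0
  choose a c hc using fun k : Fin p.natDegree => hsurj (p.coeff k)
  obtain ⟨i, hi⟩ := Finite.exists_le a
  let c' : Fin p.natDegree → S i := fun k => φ (a k) i (hi k) (c k)
  have hc' : ∀ k, ψ i (c' k) = p.coeff k := fun k => by
    rw [← AlgHom.comp_apply, hg]; exact hc k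
  let z : S i ⊗[B₀] C₀ := ((1 : S i) ⊗ₜ[B₀] x) ^ p.natDegree +
    ∑ k : Fin p.natDegree, algebraMap (S i) (S i ⊗[B₀] C₀) (c' k) * ((1 : S i) ⊗ₜ[B₀] x) ^ (k : ℕ)
  have hz : (ψ i).toLinearMap.rTensor C₀ z = 0 := by
    rw [← baseMap_eq]
    simp only [z, map_add, map_pow, map_sum, map_mul, baseMap_algebraMap, hc',
      Algebra.TensorProduct.map_tmul, map_one, AlgHom.id_apply]
    rw [← hp0, aeval_eq_sum_range, Finset.sum_range_succ, hp.coeff_natDegree, one_smul,
      ← Fin.sum_univ_eq_sum_range, add_comm]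
    simp only [Algebra.smul_def]
  obtain ⟨j, θ, hθ⟩ := exists_over_tensor_eq_zero φ ψ hg hsurj hker C₀ i z hz
  refine ⟨j, fun k θ' => ?_⟩
  have hk := congrArg (baseMap (C₀ := C₀) θ'.1) hθ
  rw [← baseMap_eq, map_zero] at hk
  simp only [z, map_add, map_pow, map_sum, map_mul, baseMap_algebraMap,
    Algebra.TensorProduct.map_tmul, map_one, AlgHom.id_apply] at hk
  refine ⟨X ^ p.natDegree + ∑ t : Fin p.natDegree, C (θ'.1 (θ.1 (c' t))) * X ^ (t : ℕ), ?_, ?_⟩
  · refine monic_X_pow_add ((degree_sum_le _ _).trans_lt ((Finset.sup_lt_iff (WithBot.bot_lt_coe _)).2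
      fun t _ => (degree_C_mul_X_pow_le _ _).trans_lt (WithBot.coe_lt_coe.2 t.2)))
  · rw [← hk]
    simp [eval₂_finsetSum]

include hg hsurj hker in
theorem exists_finite_index [Algebra.FiniteType B₀ C₀] (h : Module.Finite T (T ⊗[B₀] C₀)) :
    ∃ i, Module.Finite (S i) (S i ⊗[B₀] C₀) := by
  classical
  obtain ⟨s, hs⟩ := Algebra.FiniteType.out (R := B₀) (A := C₀)
  choose a ha using fun x : C₀ =>
    exists_over_integral φ ψ hg hsurj hker x (Algebra.IsIntegral.isIntegral _)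
  obtain ⟨i, hi⟩ := Finite.exists_le fun x : ↥s => a x
  refine ⟨i, ?_⟩
  haveI : Algebra.IsIntegral (S i) (S i ⊗[B₀] C₀) := ⟨fun z => by
    have hx : ∀ y : C₀, IsIntegral (S i) ((1 : S i) ⊗ₜ[B₀] y) := fun y => by
      have hy : y ∈ Algebra.adjoin B₀ (s : Set C₀) := hs ▸ Algebra.mem_top
      induction hy using Algebra.adjoin_induction with
      | mem x hx => exact ha x i ⟨φ (a x) i (hi ⟨x, hx⟩), hg _ _ _⟩
      | algebraMap r =>
        rw [Algebra.algebraMap_eq_smul_one, ← TensorProduct.smul_tmul, Algebra.smul_def, mul_one]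
        exact isIntegral_algebraMap (R := S i) (A := S i ⊗[B₀] C₀) (x := algebraMap B₀ (S i) r)
      | add x y _ _ hx hy => rw [TensorProduct.tmul_add]; exact hx.add hy
      | mul x y _ _ hx hy =>
        have := hx.mul hy
        rwa [Algebra.TensorProduct.tmul_mul_tmul, one_mul] at this
    induction z using TensorProduct.induction_on with
    | zero => exact isIntegral_zero
    | tmul r y =>
      have := (isIntegral_algebraMap (R := S i) (A := S i ⊗[B₀] C₀) (x := r)).mul (hx y)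
      rwa [Algebra.TensorProduct.algebraMap_apply, Algebra.TensorProduct.tmul_mul_tmul, Algebra.algebraMap_self,
        RingHom.id_apply, mul_one, one_mul] at this
    | add a b ha hb => exact ha.add hb⟩
  exact Algebra.IsIntegral.finite

include hg hsurj hker in
theorem exists_surjective_index [Algebra.FiniteType B₀ C₀]
    (h : Function.Surjective (algebraMap T (T ⊗[B₀] C₀))) :
    ∃ i, ∀ j, Over ψ i j → Function.Surjective (algebraMap (S j) (S j ⊗[B₀] C₀)) := by
  classical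
  obtain ⟨s, hs⟩ := Algebra.FiniteType.out (R := B₀) (A := C₀)
  have h1 : ∀ x : C₀, ∃ i, ∀ j, Over ψ i j →
      ((1 : S j) ⊗ₜ[B₀] x) ∈ (algebraMap (S j) (S j ⊗[B₀] C₀)).range := fun x => by
    obtain ⟨t, ht⟩ := h ((1 : T) ⊗ₜ x)
    obtain ⟨i, r, rfl⟩ := hsurj t
    obtain ⟨j, θ, hθ⟩ := exists_over_tensor_eq_zero φ ψ hg hsurj hker C₀ i
      (algebraMap (S i) (S i ⊗[B₀] C₀) r - (1 : S i) ⊗ₜ x) (by
        rw [← baseMap_eq, map_sub, baseMap_algebraMap, ht, Algebra.TensorProduct.map_tmul, map_one,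
          AlgHom.id_apply, sub_self])
    refine ⟨j, fun k θ' => ⟨θ'.1 (θ.1 r), ?_⟩⟩
    have hk := congrArg (baseMap (C₀ := C₀) θ'.1) hθ
    rw [← baseMap_eq, map_zero, map_sub, map_sub, baseMap_algebraMap, baseMap_algebraMap,
      Algebra.TensorProduct.map_tmul, Algebra.TensorProduct.map_tmul, map_one, map_one,
      AlgHom.id_apply, AlgHom.id_apply, sub_eq_zero] at hk
    exact hk
  choose a ha using h1
  obtain ⟨i, hi⟩ := Finite.exists_le fun x : ↥s => a x
  refine ⟨i, fun j θ z => ?_⟩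
  have hx : ∀ y : C₀, ((1 : S j) ⊗ₜ[B₀] y) ∈ (algebraMap (S j) (S j ⊗[B₀] C₀)).range := fun y => by
    have hy : y ∈ Algebra.adjoin B₀ (s : Set C₀) := hs ▸ Algebra.mem_top
    induction hy using Algebra.adjoin_induction with
    | mem x hx =>
      exact ha x j ⟨θ.1.comp (φ (a x) i (hi ⟨x, hx⟩)), by rw [← AlgHom.comp_assoc, θ.2, hg]⟩
    | algebraMap r =>
      exact ⟨algebraMap B₀ (S j) r, by
        rw [Algebra.TensorProduct.algebraMap_apply, Algebra.algebraMap_self, RingHom.id_apply,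
          Algebra.algebraMap_eq_smul_one, Algebra.algebraMap_eq_smul_one, TensorProduct.smul_tmul]⟩
    | add x y _ _ hx hy => rw [TensorProduct.tmul_add]; exact add_mem hx hy
    | mul x y _ _ hx hy =>
      have := mul_mem hx hy
      rwa [Algebra.TensorProduct.tmul_mul_tmul, one_mul] at this
  change z ∈ (algebraMap (S j) (S j ⊗[B₀] C₀)).range
  induction z using TensorProduct.induction_on with
  | zero => exact zero_mem _
  | tmul r y =>
    have hr : algebraMap (S j) (S j ⊗[B₀] C₀) r ∈ (algebraMap (S j) (S j ⊗[B₀] C₀)).range := ⟨r, rfl⟩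
    have := mul_mem hr (hx y)
    rwa [Algebra.TensorProduct.algebraMap_apply, Algebra.TensorProduct.tmul_mul_tmul, Algebra.algebraMap_self,
      RingHom.id_apply, mul_one, one_mul] at this
  | add a b ha hb => exact add_mem ha hb

include hg hsurj hker in
theorem exists_bijective_index [Algebra.FinitePresentation B₀ C₀]
    (h : Function.Bijective (algebraMap T (T ⊗[B₀] C₀))) :
    ∃ i, Function.Bijective (algebraMap (S i) (S i ⊗[B₀] C₀)) := by
  classical
  obtain ⟨i, hi⟩ := exists_surjective_index φ ψ hg hsurj hker h.2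
  have hsi := hi i ⟨AlgHom.id _ _, AlgHom.comp_id _⟩
  obtain ⟨s, hs⟩ : (RingHom.ker (Algebra.ofId (S i) (S i ⊗[B₀] C₀)).toRingHom).FG :=
    Algebra.FinitePresentation.ker_fG_of_surjective _ hsi
  obtain ⟨j, θ, hθ⟩ := exists_over_kill ψ hker s i id fun k hk => h.1 (by
    have hk' : algebraMap (S i) (S i ⊗[B₀] C₀) k = 0 := by
      have : k ∈ RingHom.ker (Algebra.ofId (S i) (S i ⊗[B₀] C₀)).toRingHom := hs ▸ Ideal.subset_span hk
      exact this
    have := congrArg (baseMap (C₀ := C₀) (ψ i)) hk'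
    rw [baseMap_algebraMap, map_zero] at this
    rw [id_eq, this, map_zero])
  refine ⟨j, ?_, hi j θ⟩
  -- a retraction
  let f := Algebra.ofId (S i) (S i ⊗[B₀] C₀)
  have hle : RingHom.ker f.toRingHom ≤ RingHom.ker θ.1.toRingHom := by
    rw [← hs]
    exact Ideal.span_le.2 fun k hk => hθ k hk
  let e := Ideal.quotientKerAlgEquivOfSurjective (f := f) hsi
  let r : C₀ →ₐ[B₀] S j :=
    (Ideal.Quotient.liftₐ (RingHom.ker f.toRingHom) θ.1 fun a ha => hle ha).comp
      ((e.symm.toAlgHom.restrictScalars B₀).comp Algebra.TensorProduct.includeRight)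
  let R : S j ⊗[B₀] C₀ →ₐ[B₀] S j := Algebra.TensorProduct.lift (AlgHom.id B₀ (S j)) r fun _ _ => Commute.all _ _
  refine Function.LeftInverse.injective (g := R) fun x => ?_
  simp [R, Algebra.TensorProduct.algebraMap_apply]

include hg hsurj hker in
theorem exists_unramified_index [Algebra.FiniteType B₀ C₀] (h : Algebra.Unramified T (T ⊗[B₀] C₀)) :
    ∃ i, Algebra.Unramified (S i) (S i ⊗[B₀] C₀) := by
  haveI := h
  obtain ⟨j, -, hj⟩ := exists_subsingleton_tensor (C₀ := C₀) φ ψ hg hsurj hker Ω[C₀⁄B₀]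
    ((formallyUnramified_iff_tensor_omega T).1 inferInstance) (Classical.arbitrary ι)
  exact ⟨j, ⟨(formallyUnramified_iff_tensor_omega (S j)).2 hj, inferInstance⟩⟩

end Groth.Agent.EtAlgLib
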