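import Mathlib

/-!
# Small facts about flat quotients and weakly étale algebras
-/

set_option autoImplicit false

universe u

open TensorProduct

namespace Groth.Agent.EtAlgLib

/-- The kernel of a flat surjection is a pure ideal. -/
theorem exists_eq_mul_of_flat {A B : Type*} [CommRing A] [CommRing B] [Algebra A B] [Module.Flat A B]
    (hs : Function.Surjective (algebraMap A B)) {a : A} (ha : algebraMap A B a = 0) :
    ∃ k : A, algebraMap A B k = 0 ∧ a = k * a := by
  classical
  obtain ⟨m, c, y, hx, hf⟩ := Module.Flat.isTrivialRelation_of_sum_smul_eq_zero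
    (f := fun _ : Fin 1 => a) (x := fun _ : Fin 1 => (1 : B)) (by
      simp [Algebra.smul_def, ha])
  choose z hz using fun j => hs (y j)
  refine ⟨1 - ∑ j, c 0 j * z j, ?_, ?_⟩
  · rw [map_sub, map_one, map_sum]
    refine sub_eq_zero.2 ((hx 0).trans ?_)
    refine Finset.sum_congr rfl fun j _ => ?_
    rw [map_mul, hz, Algebra.smul_def]
  · have h0 : ∑ j, a * (c 0 j * z j) = 0 := Finset.sum_eq_zero fun j _ => by
      have := hf j
      simp only [Fin.sum_univ_one] at this
      rw [← mul_assoc, this, zero_mul]
    rw [sub_mul, one_mul, Finset.sum_mul]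
    simp only [mul_comm _ a, h0, sub_zero]

/-- Flatness descends to an algebra over which the ring surjects. -/
theorem flat_of_surjective {R S : Type u} [CommRing R] [CommRing S] [Algebra R S]
    (hs : Function.Surjective (algebraMap R S)) (M : Type u) [AddCommGroup M] [Module R M]
    [Module S M] [IsScalarTower R S M] [Module.Flat R M] : Module.Flat S M := by
  rw [Module.Flat.iff_lTensor_injective']
  intro J
  rw [injective_iff_map_eq_zero]
  intro x hx
  have hcomm : ∀ z : M ⊗[R] J, TensorProduct.mapOfCompatibleSMul S R R M S
      ((J.subtype.restrictScalars R).lTensor M z) =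
      J.subtype.lTensor M (TensorProduct.mapOfCompatibleSMul S R R M J z) := fun z => by
    induction z with
    | zero => simp
    | add a b ha hb => simp only [map_add, ha, hb]
    | tmul m j => simp
  obtain ⟨z, rfl⟩ := TensorProduct.mapOfCompatibleSMul_surjective S R R M J x
  rw [← hcomm] at hx
  haveI : TensorProduct.CompatibleSMul R S M S :=
    ⟨fun s m t => by
      obtain ⟨r, rfl⟩ := hs s
      rw [algebraMap_smul, algebraMap_smul, TensorProduct.smul_tmul]⟩
  have hinj : Function.Injective ((J.subtype.restrictScalars R).lTensor M) :=
    Module.Flat.lTensor_preserves_injective_linearMap _ Subtype.val_injective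
  have hiso : Function.Injective (TensorProduct.mapOfCompatibleSMul S R R M S) :=
    (TensorProduct.equivOfCompatibleSMul S R R M S).injective
  rw [hinj ((hiso (hx.trans (map_zero _).symm)).trans (map_zero _).symm), map_zero]

/-- Flatness cancels a surjection. -/
theorem flat_of_comp_surjective {R S T : Type u} [CommRing R] [CommRing S] [CommRing T] {f : R →+* S}
    {g : S →+* T} (hf : Function.Surjective f) (h : (g.comp f).Flat) : g.Flat := by
  algebraize [f, g, g.comp f]
  exact flat_of_surjective (R := R) (S := S) hf T

end Groth.Agent.EtAlgLib
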