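import Mathlib
import Groth.Agent.S2042

/-! Étale lifting of idempotents. -/

universe u
open Polynomial

namespace Groth.Agent.EtAlgLib

theorem map_eq_X_pow {A : Type u} [CommRing A] (I : Ideal A) (q : A[X]) (hq : q.Monic)
    (h : ∀ k, q.coeff k ∈ I ^ (q.natDegree - k)) :
    q.map (Ideal.Quotient.mk I) = X ^ q.natDegree := by
  ext k
  rw [coeff_map, coeff_X_pow]
  rcases lt_trichotomy k q.natDegree with hk | hk | hk
  · rw [if_neg hk.ne, Ideal.Quotient.eq_zero_iff_mem]
    exact Ideal.pow_le_self (Nat.sub_ne_zero_of_lt hk) (h k)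
  · rw [if_pos hk, hk, hq.coeff_natDegree, map_one]
  · rw [if_neg hk.ne', coeff_eq_zero_of_natDegree_lt hk, map_zero]

/-- Given a monic `P` reducing to `(X(X-1))^N`, an étale neighbourhood of `Spec (A/I)` carries a
polynomial `v` turning every root of `P` into an idempotent. -/
theorem exists_etale_idem {A : Type u} [CommRing A] (I : Ideal A) (P : A[X]) (hP : P.Monic) (N : ℕ)
    (hN : N ≠ 0) (hmap : P.map (Ideal.Quotient.mk I) = X ^ N * (X - C 1) ^ N) :
    ∃ (A' : Type u) (_ : CommRing A') (_ : Algebra A A'), Algebra.Etale A A' ∧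
      Function.Bijective (algebraMap (A ⧸ I) (A' ⧸ I.map (algebraMap A A'))) ∧
      ∃ v : A'[X], ∀ (E : Type u) [Ring E] [Algebra A' E] (x : E),
        aeval x (P.map (algebraMap A A')) = 0 →
          IsIdempotentElem (aeval x v) ∧
          (IsIdempotentElem x → (∀ a ∈ I, algebraMap A' E (algebraMap A A' a) = 0) → aeval x v = x) := by
  classical
  by_cases htriv : Nontrivial (A ⧸ I)
  swap
  · have : Subsingleton (A ⧸ I) := not_nontrivial_iff_subsingleton.1 htriv
    have : Subsingleton (A ⧸ I.map (algebraMap A A)) := by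
      rw [Algebra.algebraMap_self, Ideal.map_id]; infer_instance
    refine ⟨A, inferInstance, inferInstance, inferInstance,
      ⟨fun x y _ => Subsingleton.elim x y, fun y => ⟨0, Subsingleton.elim _ _⟩⟩, 0,
      fun E _ _ x _ => ⟨by rw [map_zero]; exact IsIdempotentElem.zero, fun _ h => ?_⟩⟩
    have h1 : (1 : E) = 0 := by
      rw [← map_one (algebraMap A E)]
      exact h 1 ((Ideal.eq_top_iff_one I).1 (Ideal.Quotient.subsingleton_iff.1 ‹_›))
    exact eq_of_zero_eq_one h1.symm _ _
  have hg : (X ^ N : (A ⧸ I)[X]).Monic := monic_X_pow N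
  have hh : ((X - C 1) ^ N : (A ⧸ I)[X]).Monic := (monic_X_sub_C 1).pow N
  have hcop : IsCoprime (X ^ N : (A ⧸ I)[X]) ((X - C 1) ^ N) := by
    have h1 : IsCoprime (X : (A ⧸ I)[X]) (X - C 1) := ⟨1, -1, by rw [map_one]; ring⟩
    exact h1.pow
  have hdeg : P.natDegree = (X ^ N : (A ⧸ I)[X]).natDegree + ((X - C 1) ^ N : (A ⧸ I)[X]).natDegree := by
    rw [← hg.natDegree_mul hh, ← hmap, hP.natDegree_map]
  let p : MonicDegreeEq A P.natDegree := .mk P hP rfl
  let φ := (UniversalCoprimeFactorizationRing.homEquiv (A ⧸ I) _ _ hdeg p).symm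
    ⟨(.mk _ hg rfl, .mk _ hh rfl), hmap.symm, hcop⟩
  obtain ⟨s, hφs, hbij⟩ := S2042.exists_away_bijective I φ
  have happ := (UniversalCoprimeFactorizationRing.homEquiv (A ⧸ I) _ _ hdeg p).apply_symm_apply
    ⟨(.mk _ hg rfl, .mk _ hh rfl), hmap.symm, hcop⟩
  let C₀ := UniversalCoprimeFactorizationRing (X ^ N : (A ⧸ I)[X]).natDegree
    ((X - C 1) ^ N : (A ⧸ I)[X]).natDegree hdeg p
  let A' := Localization.Away (M := C₀) s
  let g₀ := (UniversalCoprimeFactorizationRing.factor₁ _ _ hdeg p).1
  let h₀ := (UniversalCoprimeFactorizationRing.factor₂ _ _ hdeg p).1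
  have hg₀ : g₀.map φ.toRingHom = X ^ N := by
    rw [show g₀ = (UniversalCoprimeFactorizationRing.factor₁ _ _ hdeg p).1 from rfl,
      UniversalCoprimeFactorizationRing.factor₁, MonicDegreeEq.map_coe, Polynomial.map_map]
    exact congrArg (fun q => q.1.1.1) happ
  have hh₀ : h₀.map φ.toRingHom = (X - C 1) ^ N := by
    rw [show h₀ = (UniversalCoprimeFactorizationRing.factor₂ _ _ hdeg p).1 from rfl,
      UniversalCoprimeFactorizationRing.factor₂, MonicDegreeEq.map_coe, Polynomial.map_map]
    exact congrArg (fun q => q.1.2.1) happ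
  obtain ⟨U, V, hUV⟩ : IsCoprime (g₀.map (algebraMap C₀ A')) (h₀.map (algebraMap C₀ A')) := by
    obtain ⟨U, V, h⟩ := UniversalCoprimeFactorizationRing.isCoprime_factor₁_factor₂ _ _ hdeg p
    exact ⟨U.map (algebraMap C₀ A'), V.map (algebraMap C₀ A'), by
      rw [← Polynomial.map_mul, ← Polynomial.map_mul, ← Polynomial.map_add]
      exact (congrArg (Polynomial.map (algebraMap C₀ A')) h).trans (Polynomial.map_one _)⟩
  refine ⟨A', inferInstance, inferInstance, inferInstance, hbij, U * g₀.map (algebraMap C₀ A'),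
    fun E _ _ x hx => ?_⟩
  have hprod : g₀.map (algebraMap C₀ A') * h₀.map (algebraMap C₀ A') = P.map (algebraMap A A') := by
    rw [← Polynomial.map_mul, UniversalCoprimeFactorizationRing.factor₁_mul_factor₂,
      MonicDegreeEq.map_coe, Polynomial.map_map, ← IsScalarTower.algebraMap_eq]
    rfl
  refine ⟨?_, fun hx2 hI => ?_⟩
  · have h1 : aeval x (U * g₀.map (algebraMap C₀ A')) *
        aeval x (V * h₀.map (algebraMap C₀ A')) = 0 := by
      rw [← map_mul, show U * g₀.map (algebraMap C₀ A') * (V * h₀.map (algebraMap C₀ A')) =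
        U * V * P.map (algebraMap A A') by rw [← hprod]; ring, map_mul, hx, mul_zero]
    have h2 : aeval x (V * h₀.map (algebraMap C₀ A')) =
        1 - aeval x (U * g₀.map (algebraMap C₀ A')) := by
      rw [eq_sub_iff_add_eq, ← map_add, add_comm, hUV, map_one]
    rw [h2, mul_sub, mul_one, sub_eq_zero] at h1
    exact h1.symm
  · -- reduce coefficients modulo `I`
    have hI' : ∀ y ∈ I.map (algebraMap A A'), algebraMap A' E y = 0 := fun y hy =>
      (Ideal.map_le_iff_le_comap.2 (fun a ha => RingHom.mem_ker.2 (hI a ha)) :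
        I.map (algebraMap A A') ≤ RingHom.ker (algebraMap A' E)) hy
    let Q := Ideal.Quotient.mk (I.map (algebraMap A A'))
    have hQ : Q.comp (algebraMap C₀ A') =
        (algebraMap (A ⧸ I) (A' ⧸ I.map (algebraMap A A'))).comp φ.toRingHom := by
      let φ' : A' →ₐ[A] A ⧸ I :=
        IsLocalization.Away.liftAlgHom (f := φ) s (by rw [hφs]; exact isUnit_one)
      ext c
      obtain ⟨b, hb⟩ := hbij.2 (Q (algebraMap C₀ A' c))
      obtain ⟨a, rfl⟩ := Ideal.Quotient.mk_surjective b
      rw [RingHom.comp_apply, RingHom.comp_apply, ← hb]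
      congr 1
      have h1 : algebraMap A A' a - algebraMap C₀ A' c ∈ I.map (algebraMap A A') :=
        Ideal.Quotient.eq.1 hb
      have h2 : φ' (algebraMap A A' a - algebraMap C₀ A' c) = 0 :=
        (Ideal.map_le_iff_le_comap.2
          (fun a ha => by simp [RingHom.mem_ker, Ideal.Quotient.eq_zero_iff_mem.2 ha]) :
          I.map (algebraMap A A') ≤ RingHom.ker φ'.toRingHom) h1
      rw [map_sub, AlgHom.commutes, sub_eq_zero] at h2
      refine h2.trans ?_
      exact IsLocalization.Away.lift_eq (g := φ.toRingHom) s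
        (by rw [AlgHom.toRingHom_eq_coe, RingHom.coe_coe, hφs]; exact isUnit_one) c
    have key : ∀ r t : A'[X], r.map Q = t.map Q → aeval x r = aeval x t := fun r t hrt => by
      rw [aeval_eq_sum_range' (n := max r.natDegree t.natDegree + 1) (by omega),
        aeval_eq_sum_range' (n := max r.natDegree t.natDegree + 1) (by omega)]
      refine Finset.sum_congr rfl fun i _ => ?_
      have h := congrArg (fun q => coeff q i) hrt
      simp only [coeff_map] at h
      have h' := hI' _ (Ideal.Quotient.eq.1 h)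
      rw [map_sub, sub_eq_zero] at h'
      rw [Algebra.smul_def, Algebra.smul_def, h']
    have hg' : aeval x (g₀.map (algebraMap C₀ A')) = x := by
      rw [key _ (X ^ N) (by rw [Polynomial.map_map, hQ, ← Polynomial.map_map, hg₀]; simp),
        map_pow, aeval_X, ← Nat.succ_pred_eq_of_ne_zero hN, hx2.pow_succ_eq]
    have hh' : x * aeval x (h₀.map (algebraMap C₀ A')) = 0 := by
      rw [key _ ((X - C 1) ^ N) (by rw [Polynomial.map_map, hQ, ← Polynomial.map_map, hh₀]; simp),
        map_pow, show aeval x (X - C (1 : A')) = x - 1 by simp,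
        ← Nat.succ_pred_eq_of_ne_zero hN, pow_succ',
        ← mul_assoc, mul_sub, mul_one, hx2.eq, sub_self, zero_mul]
    have h4 : x * aeval x (V * h₀.map (algebraMap C₀ A')) = 0 := by
      have h5 : x = aeval x (X : A'[X]) := (aeval_X x).symm
      nth_rewrite 1 [h5]
      rw [← map_mul, show X * (V * h₀.map (algebraMap C₀ A')) =
        V * (X * h₀.map (algebraMap C₀ A')) by ring, map_mul, map_mul, aeval_X, hh', mul_zero]
    have h6 : aeval x (U * g₀.map (algebraMap C₀ A')) * x =
        aeval x (U * g₀.map (algebraMap C₀ A')) := by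
      rw [map_mul, hg', mul_assoc, hx2.eq]
    have h7 : x * aeval x (U * g₀.map (algebraMap C₀ A')) = x := by
      have h8 : aeval x (U * g₀.map (algebraMap C₀ A')) =
          1 - aeval x (V * h₀.map (algebraMap C₀ A')) := by
        rw [eq_sub_iff_add_eq, ← map_add, hUV, map_one]
      rw [h8, mul_sub, mul_one, h4, sub_zero]
    have h9 : aeval x (U * g₀.map (algebraMap C₀ A')) * x =
        x * aeval x (U * g₀.map (algebraMap C₀ A')) := by
      have h5 : x = aeval x (X : A'[X]) := (aeval_X x).symm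
      nth_rewrite 2 [h5]
      nth_rewrite 3 [h5]
      rw [← map_mul, ← map_mul, mul_comm]
    rw [← h6, h9, h7]

end Groth.Agent.EtAlgLib
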