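import Mathlib

/-! Detection of nonzero `I`-power torsion modules by a flat `R`-algebra. -/

universe u
open TensorProduct

namespace Groth.Agent.EtAlgLib

variable {R S : Type u} [CommRing R] [CommRing S] [Algebra R S]

theorem nontrivial_tensor_of_torsion [Module.Flat R S] {I : Ideal R}
    (h : ∀ m : Ideal R, m.IsMaximal → I ≤ m → ∃ q : Ideal S, q.IsPrime ∧ q.comap (algebraMap R S) = m)
    (M : Type u) [AddCommGroup M] [Module R M] (hM : ∀ m : M, ∃ n : ℕ, ∀ a ∈ I ^ n, a • m = 0)
    [Nontrivial M] : Nontrivial (S ⊗[R] M) := by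
  obtain ⟨x, hx⟩ := exists_ne (0 : M)
  obtain ⟨n, hn⟩ := hM x
  let J : Ideal R := LinearMap.ker (LinearMap.toSpanSingleton R M x)
  have hJ : J ≠ ⊤ := fun e => hx (by
    have : (1 : R) ∈ J := e ▸ Submodule.mem_top
    simpa [J] using this)
  obtain ⟨m, hm, hJm⟩ := Ideal.exists_le_maximal J hJ
  have hIm : I ≤ m := hm.isPrime.le_of_pow_le (n := n) fun a ha => hJm (by simpa [J] using hn a ha)
  obtain ⟨q, hq, hqm⟩ := h m hm hIm
  have hJq : ∀ r ∈ J, algebraMap R S r ∈ q := fun r hr => by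
    rw [← Ideal.mem_comap, hqm]; exact hJm hr
  let f : (R ⧸ J) →ₗ[R] M := J.liftQ (LinearMap.toSpanSingleton R M x) le_rfl
  have hf : Function.Injective f := LinearMap.ker_eq_bot.1 (Submodule.ker_liftQ_eq_bot _ _ _ le_rfl)
  let φ : S ⊗[R] (R ⧸ J) →ₐ[R] S ⧸ q :=
    Algebra.TensorProduct.lift (Ideal.Quotient.mkₐ R q)
      (Ideal.Quotient.liftₐ J (Algebra.ofId R (S ⧸ q))
        fun r hr => Ideal.Quotient.eq_zero_iff_mem.2 (hJq r hr))
      (fun _ _ => Commute.all _ _)
  haveI : Nontrivial (S ⧸ q) := Ideal.Quotient.nontrivial_iff.2 hq.ne_top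
  haveI : Nontrivial (S ⊗[R] (R ⧸ J)) := φ.toRingHom.domain_nontrivial
  exact (Module.Flat.lTensor_preserves_injective_linearMap f hf).nontrivial

theorem exists_prime_over_of_detects {I : Ideal R}
    (h : ∀ (M : Type u) [AddCommGroup M] [Module R M], (∀ (a : R) (m : M), a ∈ I → a • m = 0) →
      Nontrivial M → Nontrivial (S ⊗[R] M))
    (p : PrimeSpectrum R) (hp : I ≤ p.asIdeal) :
    ∃ q : PrimeSpectrum S, PrimeSpectrum.comap (algebraMap R S) q = p := by
  have := h p.asIdeal.ResidueField (fun a m ha => by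
    rw [Algebra.smul_def, Ideal.algebraMap_residueField_eq_zero.2 (hp ha), zero_mul]) inferInstance
  exact (PrimeSpectrum.nontrivial_iff_mem_rangeComap p).1
    (TensorProduct.comm R _ S).toEquiv.nontrivial

theorem flat_quotient [Module.Flat R S] (I : Ideal R) :
    Module.Flat (R ⧸ I) (S ⧸ I.map (algebraMap R S)) :=
  Module.Flat.of_linearEquiv (Algebra.TensorProduct.quotIdealMapEquivQuotTensor S I).toLinearEquiv

theorem mem_range_add_pow (I : Ideal R)
    (h : ∀ s : S, ∃ r : R, s - algebraMap R S r ∈ I.map (algebraMap R S)) :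
    ∀ (n : ℕ) (s : S), ∃ r : R, s - algebraMap R S r ∈ (I ^ n).map (algebraMap R S) := by
  intro n
  induction n with
  | zero => exact fun s => ⟨0, by rw [pow_zero, Ideal.one_eq_top, Ideal.map_top]; trivial⟩
  | succ n ih =>
    intro s
    obtain ⟨r, hr⟩ := ih s
    suffices H : ∀ z ∈ (I ^ n).map (algebraMap R S), ∃ r' : R,
        z - algebraMap R S r' ∈ (I ^ (n + 1)).map (algebraMap R S) by
      obtain ⟨r', hr'⟩ := H _ hr
      exact ⟨r + r', by rwa [map_add, ← sub_sub]⟩
    intro z hz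
    rw [Ideal.map] at hz
    induction hz using Submodule.span_induction with
    | mem x hx =>
      obtain ⟨a, ha, rfl⟩ := hx
      exact ⟨a, by simp⟩
    | zero => exact ⟨0, by simp⟩
    | add x y _ _ hx hy =>
      obtain ⟨a, ha⟩ := hx
      obtain ⟨b, hb⟩ := hy
      exact ⟨a + b, by rw [map_add, add_sub_add_comm]; exact add_mem ha hb⟩
    | smul t x hxm hx =>
      obtain ⟨a, ha⟩ := hx
      obtain ⟨b, hb⟩ := h t
      refine ⟨b * a, ?_⟩
      have h1 : (t - algebraMap R S b) * x ∈ (I ^ (n + 1)).map (algebraMap R S) := by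
        rw [pow_succ', Ideal.map_mul]
        exact Ideal.mul_mem_mul hb hxm
      rw [smul_eq_mul, map_mul, show t * x - algebraMap R S b * algebraMap R S a =
        (t - algebraMap R S b) * x + algebraMap R S b * (x - algebraMap R S a) by ring]
      exact add_mem h1 (Ideal.mul_mem_left _ _ ha)

end Groth.Agent.EtAlgLib
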