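import Groth.Agent.EtAlgLib.Small
import Mathlib

/-!
# Modules over algebras with flat multiplication map
-/

set_option autoImplicit false

universe u

open TensorProduct

namespace Groth.Agent.EtAlgLib

variable (A : Type u) {B : Type u} [CommRing A] [CommRing B] [Algebra A B]

section

variable (M N : Type u) [AddCommGroup M] [Module A M] [Module B M] [IsScalarTower A B M]
  [AddCommGroup N] [Module A N] [Module B N] [IsScalarTower A B N]

/-- The action of `B ⊗ B` on a tensor product. -/
noncomputable def act : B ⊗[A] B →ₐ[A] Module.End A (M ⊗[A] N) :=
  Algebra.TensorProduct.lift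
    ((Module.endTensorEndAlgHom (R := A) (A := A)).comp
      (Algebra.TensorProduct.includeLeft.comp (Algebra.lsmul A A M)))
    ((Module.endTensorEndAlgHom (R := A) (A := A)).comp
      (Algebra.TensorProduct.includeRight.comp (Algebra.lsmul A A N)))
    fun b b' => by
      show _ * _ = _ * _
      refine TensorProduct.ext' fun m n => ?_
      simp [Module.endTensorEndAlgHom]

@[simp]
theorem act_tmul (b b' : B) (m : M) (n : N) :
    act A M N (b ⊗ₜ b') (m ⊗ₜ n) = (b • m) ⊗ₜ (b' • n) := by
  simp [act, Module.endTensorEndAlgHom]

end

/-- If the multiplication map of `B` is flat then flatness over `A` gives flatness over `B`. -/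
theorem flat_of_flat_lmul (h : (Algebra.TensorProduct.lmul' A (S := B)).Flat)
    (N : Type u) [AddCommGroup N] [Module B N] [Module A N] [IsScalarTower A B N]
    [Module.Flat A N] : Module.Flat B N := by
  rw [Module.Flat.iff_lTensor_injective']
  intro J
  let T := B ⊗[A] B
  letI : Algebra T B := (Algebra.TensorProduct.lmul' A (S := B)).toRingHom.toAlgebra
  haveI : Module.Flat T B := h
  have hTB : ∀ (t : T) (b : B), t • b = Algebra.TensorProduct.lmul' A t * b := fun _ _ => rfl
  letI mJ : Module T (N ⊗[A] J) := Module.compHom _ (act A N J).toRingHom
  letI mB : Module T (N ⊗[A] B) := Module.compHom _ (act A N B).toRingHom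
  have hJ : ∀ (t : T) z, t • z = act A N J t z := fun _ _ => rfl
  have hB : ∀ (t : T) z, t • z = act A N B t z := fun _ _ => rfl
  let i : N ⊗[A] J →ₗ[T] N ⊗[A] B :=
    { ((J.subtype.restrictScalars A).lTensor N) with
      map_smul' := fun t z => by
        rw [hJ, RingHom.id_apply, hB]
        show (J.subtype.restrictScalars A).lTensor N (act A N J t z) =
          act A N B t ((J.subtype.restrictScalars A).lTensor N z)
        induction t using TensorProduct.induction_on with
        | zero => simp
        | add a b ha hb => simp only [map_add, LinearMap.add_apply, ha, hb]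
        | tmul a b =>
          induction z with
          | zero => simp
          | add u v hu hv => simp only [map_add, hu, hv]
          | tmul n j => simp }
  have hi : Function.Injective i :=
    Module.Flat.lTensor_preserves_injective_linearMap (J.subtype.restrictScalars A)
      Subtype.val_injective
  -- comparison maps
  let ι : ∀ (P : Type u) [AddCommGroup P] [Module B P] [Module A P] [IsScalarTower A B P]
      [Module T (N ⊗[A] P)] (_ : ∀ (t : T) z, t • z = act A N P t z),
      N ⊗[B] P →+ B ⊗[T] (N ⊗[A] P) := fun P _ _ _ _ _ hP =>
    TensorProduct.liftAddHom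
      { toFun := fun n =>
          { toFun := fun p => (1 : B) ⊗ₜ[T] (n ⊗ₜ[A] p)
            map_zero' := by simp
            map_add' := fun p q => by simp [TensorProduct.tmul_add] }
        map_zero' := by ext p; simp
        map_add' := fun n n' => by ext p; simp [TensorProduct.add_tmul, TensorProduct.tmul_add] }
      fun b n p => by
        show (1 : B) ⊗ₜ[T] ((b • n) ⊗ₜ[A] p) = (1 : B) ⊗ₜ[T] (n ⊗ₜ[A] (b • p))
        have e1 : (b • n) ⊗ₜ[A] p = (b ⊗ₜ[A] (1 : B) : T) • (n ⊗ₜ[A] p) := by simp [hP]
        have e2 : n ⊗ₜ[A] (b • p) = ((1 : B) ⊗ₜ[A] b : T) • (n ⊗ₜ[A] p) := by simp [hP]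
        rw [e1, e2, ← TensorProduct.smul_tmul, ← TensorProduct.smul_tmul]
        simp [hTB]
  let π : B ⊗[T] (N ⊗[A] J) →+ N ⊗[B] J :=
    TensorProduct.liftAddHom
      { toFun := fun b =>
          { toFun := fun z => b • TensorProduct.mapOfCompatibleSMul B A A N J z
            map_zero' := by simp
            map_add' := fun u v => by simp [smul_add] }
        map_zero' := by ext z; simp
        map_add' := fun b b' => by ext z; simp [add_smul] }
      fun t b z => by
        show (t • b) • TensorProduct.mapOfCompatibleSMul B A A N J z =
          b • TensorProduct.mapOfCompatibleSMul B A A N J (t • z)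
        rw [hJ, hTB]
        induction t using TensorProduct.induction_on with
        | zero => simp
        | add u v hu hv => simp only [map_add, LinearMap.add_apply, add_mul, add_smul, hu, hv, smul_add]
        | tmul u v =>
          induction z with
          | zero => simp
          | add x y hx hy => simp only [map_add, smul_add, hx, hy]
          | tmul n j =>
            simp only [Algebra.TensorProduct.lmul'_apply_tmul, act_tmul,
              TensorProduct.mapOfCompatibleSMul_tmul]
            rw [← TensorProduct.smul_tmul', ← TensorProduct.smul_tmul,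
              ← TensorProduct.smul_tmul', smul_smul, smul_smul]
            congr 1
            ring
  have hπι : ∀ x, π (ι J hJ x) = x := fun x => by
    induction x with
    | zero => simp
    | add a b ha hb => simp only [map_add, ha, hb]
    | tmul n j => simp [π, ι]
  have hsq : ∀ x, i.lTensor B (ι J hJ x) = ι B hB (J.subtype.lTensor N x) := fun x => by
    induction x with
    | zero => simp
    | add a b ha hb => simp only [map_add, ha, hb]
    | tmul n j => simp [ι, i]
  intro x y hxy
  have h1 : ι J hJ x = ι J hJ y :=
    Module.Flat.lTensor_preserves_injective_linearMap i hi (by rw [hsq, hsq, hxy])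
  rw [← hπι x, ← hπι y, h1]

end Groth.Agent.EtAlgLib
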